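import Mathlib.Topology.Algebra.Category.ProfiniteGrp.Completion

set_option autoImplicit false

open CategoryTheory ProfiniteGrp

namespace Groth.Agent.ProfRightExact

universe u

abbrev Comp (G : Type u) [Group G] := ProfiniteCompletion.completion (GrpCat.of G)

abbrev eta' {G : Type u} [Group G] (g : G) : Comp G := ProfiniteCompletion.etaFn (GrpCat.of G) g

/-- the induced map on completions -/
noncomputable def cmap {G H : Type u} [Group G] [Group H] (f : G →* H) : Comp G ⟶ Comp H :=
  profiniteCompletion.map (GrpCat.ofHom f)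

lemma cmap_eta {G H : Type u} [Group G] [Group H] (f : G →* H) (g : G) :
    (cmap f).hom (eta' g) = eta' (f g) :=
  ConcreteCategory.congr_hom
    (ProfiniteCompletion.lift_eta (GrpCat.ofHom f ≫ ProfiniteCompletion.eta (GrpCat.of H))) g

/-- evaluation at a finite index normal subgroup -/
def comp' {G : Type u} [Group G] (x : Comp G) (N : FiniteIndexNormalSubgroup G) :
    G ⧸ N.toSubgroup := x.val N

lemma continuous_comp' {G : Type u} [Group G] (N : FiniteIndexNormalSubgroup G)
    (A : Set (G ⧸ N.toSubgroup)) : IsClosed {x : Comp G | comp' x N ∈ A} := by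
  have hc : Continuous fun x : Comp G => (x.val N : (ProfiniteCompletion.diagram (GrpCat.of G)).obj N) :=
    (continuous_apply N).comp continuous_subtype_val
  haveI : DiscreteTopology ((ProfiniteCompletion.diagram (GrpCat.of G)).obj N) := ⟨rfl⟩
  exact (isClosed_discrete (α := (ProfiniteCompletion.diagram (GrpCat.of G)).obj N) A).preimage hc

lemma eq_of_eqOn_eta {G : Type u} [Group G] {S : Set (Comp G)} (hS : IsClosed S)
    (h : ∀ g : G, eta' g ∈ S) (x : Comp G) : x ∈ S :=
  (ProfiniteCompletion.denseRange (GrpCat.of G)).induction_on x hS h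

variable {A : Type u} [CommGroup A] (A' : Subgroup A)

theorem main :
    Function.Surjective (profiniteCompletion.map (GrpCat.ofHom (QuotientGroup.mk' A'))).hom ∧
      (profiniteCompletion.map (GrpCat.ofHom (QuotientGroup.mk' A'))).hom.toMonoidHom.ker =
        (profiniteCompletion.map (GrpCat.ofHom A'.subtype)).hom.toMonoidHom.range := by
  let q := cmap (QuotientGroup.mk' A')
  let i := cmap A'.subtype
  show Function.Surjective q.hom ∧ q.hom.toMonoidHom.ker = i.hom.toMonoidHom.range
  refine ⟨?_, le_antisymm ?_ ?_⟩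
  · have hcl : IsClosed (Set.range q.hom) :=
      (isCompact_range q.hom.continuous_toFun).isClosed
    intro y
    refine eq_of_eqOn_eta hcl (fun b => ?_) y
    obtain ⟨a, rfl⟩ := QuotientGroup.mk'_surjective A' b
    exact ⟨eta' a, cmap_eta _ a⟩
  · intro x hx
    change q.hom x = 1 at hx
    let C : FiniteIndexNormalSubgroup A → Set (Comp A') :=
      fun N => {y | comp' (i.hom y) N = comp' x N}
    have hclosed : ∀ N, IsClosed (C N) := fun N =>
      (continuous_comp' N {comp' x N}).preimage i.hom.continuous_toFun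
    have hne : ∀ N, (C N).Nonempty := by
      intro N
      obtain ⟨a, ha⟩ := QuotientGroup.mk_surjective (comp' x N)
      haveI : (N.toSubgroup ⊔ A').FiniteIndex := Subgroup.finiteIndex_of_le le_sup_left
      haveI hq : ((N.toSubgroup ⊔ A').map (QuotientGroup.mk' A')).FiniteIndex := ⟨by
        rw [Subgroup.index_map_eq _ (QuotientGroup.mk'_surjective A')
          (by rw [QuotientGroup.ker_mk']; exact le_sup_right)]
        exact Subgroup.FiniteIndex.index_ne_zero⟩
      let M : FiniteIndexNormalSubgroup A := .ofSubgroup (N.toSubgroup ⊔ A')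
      let Mb : FiniteIndexNormalSubgroup (A ⧸ A') :=
        .ofSubgroup ((N.toSubgroup ⊔ A').map (QuotientGroup.mk' A'))
      have hmem : a ∈ N.toSubgroup ⊔ A' := by
        have key : x ∈ {z : Comp A | ∀ c : A, comp' z N = QuotientGroup.mk c →
            comp' (q.hom z) Mb = QuotientGroup.mk (QuotientGroup.mk' A' c)} := by
          refine eq_of_eqOn_eta (S := {z : Comp A | ∀ c : A, comp' z N = QuotientGroup.mk c →
            comp' (q.hom z) Mb = QuotientGroup.mk (QuotientGroup.mk' A' c)}) ?_ (fun g c hc => ?_) x
          · simp only [Set.setOf_forall]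
            refine isClosed_iInter fun c => ?_
            simp only [imp_iff_not_or, Set.setOf_or]
            refine IsClosed.union ?_ ?_
            · exact continuous_comp' N {QuotientGroup.mk c}ᶜ
            · exact (continuous_comp' Mb {QuotientGroup.mk (QuotientGroup.mk' A' c)}).preimage
                q.hom.continuous_toFun
          · show comp' (q.hom (eta' g)) Mb = _
            rw [cmap_eta]
            show (QuotientGroup.mk (QuotientGroup.mk' A' g) : (A ⧸ A') ⧸ Mb.toSubgroup) = _
            rw [QuotientGroup.eq]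
            exact ⟨g⁻¹ * c, Subgroup.mem_sup_left (QuotientGroup.eq.1 hc),
              by rw [map_mul, map_inv]⟩
        have h := key a ha.symm
        rw [hx] at h
        have h' : QuotientGroup.mk' A' a ∈ (N.toSubgroup ⊔ A').map (QuotientGroup.mk' A') :=
          (QuotientGroup.eq_one_iff _).1 (h.symm.trans rfl)
        obtain ⟨m, hm, hme⟩ := h'
        have : m⁻¹ * a ∈ A' := QuotientGroup.eq.1 hme
        simpa using mul_mem hm (Subgroup.mem_sup_right this)
      obtain ⟨n, hn, a', ha', rfl⟩ := Subgroup.mem_sup.1 hmem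
      refine ⟨eta' ⟨a', ha'⟩, ?_⟩
      show comp' (i.hom (eta' (⟨a', ha'⟩ : A'))) N = comp' x N
      rw [cmap_eta, ← ha]
      show (QuotientGroup.mk a' : A ⧸ N.toSubgroup) = QuotientGroup.mk (n * a')
      rw [QuotientGroup.mk_mul, (QuotientGroup.eq_one_iff n).2 hn, one_mul]
    have hdir : Directed (· ⊇ ·) C := by
      intro N₁ N₂
      refine ⟨N₁ ⊓ N₂, ?_, ?_⟩ <;> intro y hy
      · have h1 := (i.hom y).property (homOfLE (inf_le_left : N₁ ⊓ N₂ ≤ N₁))
        have h2 := x.property (homOfLE (inf_le_left : N₁ ⊓ N₂ ≤ N₁))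
        show comp' (i.hom y) N₁ = comp' x N₁
        exact h1.symm.trans ((congrArg _ hy).trans h2)
      · have h1 := (i.hom y).property (homOfLE (inf_le_right : N₁ ⊓ N₂ ≤ N₂))
        have h2 := x.property (homOfLE (inf_le_right : N₁ ⊓ N₂ ≤ N₂))
        show comp' (i.hom y) N₂ = comp' x N₂
        exact h1.symm.trans ((congrArg _ hy).trans h2)
    haveI : (⊤ : Subgroup A).FiniteIndex := inferInstance
    haveI : Nonempty (FiniteIndexNormalSubgroup A) := ⟨.ofSubgroup ⊤⟩
    obtain ⟨y, hy⟩ := IsCompact.nonempty_iInter_of_directed_nonempty_isCompact_isClosed C hdir hne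
      (fun N => (hclosed N).isCompact) hclosed
    refine ⟨y, Subtype.ext (funext fun N => ?_)⟩
    exact Set.mem_iInter.1 hy N
  · rintro _ ⟨y, rfl⟩
    refine eq_of_eqOn_eta (S := {y | q.hom (i.hom y) = 1}) ?_ (fun a => ?_) y
    · exact isClosed_eq (q.hom.continuous_toFun.comp i.hom.continuous_toFun) continuous_const
    · show q.hom (i.hom (eta' a)) = 1
      rw [cmap_eta, cmap_eta]
      show eta' (QuotientGroup.mk' A' (a : A)) = 1
      rw [QuotientGroup.mk'_apply, (QuotientGroup.eq_one_iff _).2 a.2]
      rfl

end Groth.Agent.ProfRightExact
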